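import Mathlib
import Cfsg.Agent.H662.HT.Sym

/-!
# Groups of symplectic type: sizes of centralizers and fixed point spaces (helper813, task HT-E A1)
-/

set_option autoImplicit false

open scoped commutatorElement

namespace Cfsg.Agent.H813.HT

open Cfsg.Agent.H662.HT

universe u v

theorem exists_embed (A : Type u) [Group A] [Finite A] [IsCyclic A] : ∃ ι : A →* ℂˣ, Function.Injective ι := by
  have hne : NeZero (Nat.card A) := ⟨Nat.card_pos.ne'⟩
  have hc : Nat.card A = Nat.card (rootsOfUnity (Nat.card A) ℂ) := by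
    rw [Complex.card_rootsOfUnity]
  exact ⟨(rootsOfUnity (Nat.card A) ℂ).subtype.comp (mulEquivOfCyclicCardEq hc).toMonoidHom,
    Subtype.val_injective.comp (mulEquivOfCyclicCardEq hc).injective⟩

variable {s a : ℕ} {N : Type u} {V : Type v} [Group N] [AddCommGroup V] [DistribMulAction N V]

theorem Sym_card_cen (H : Sym s a N V) {S : Subgroup N} (hS : S ⊓ Subgroup.center N = ⊥) :
    Nat.card (Subgroup.centralizer (S : Set N)) * Nat.card S = Nat.card N := by
  have := H.fin
  have := H.cyc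
  obtain ⟨ι, hι⟩ := exists_embed (Subgroup.center N)
  let iS : CommGroup S :=
    { (inferInstance : Group S) with mul_comm := fun x y => Subtype.ext (H.commS hS x.2 y.2) }
  have hmul : ∀ (n : N) (x y : S), ι ⟨⁅n, ((x * y : S) : N)⁆, H.comm n _⟩ =
      ι ⟨⁅n, (x : N)⁆, H.comm n x⟩ * ι ⟨⁅n, (y : N)⁆, H.comm n y⟩ := by
    intro n x y
    rw [← map_mul]
    congr 1
    exact Subtype.ext (H.comm_mul_right n x y)
  have hmul' : ∀ (n m : N) (x : S), ι ⟨⁅n * m, (x : N)⁆, H.comm _ _⟩ =
      ι ⟨⁅n, (x : N)⁆, H.comm n x⟩ * ι ⟨⁅m, (x : N)⁆, H.comm m x⟩ := by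
    intro n m x
    rw [← map_mul]
    congr 1
    exact Subtype.ext (H.comm_mul_left n m x)
  let f : N → (S →* ℂˣ) := fun n => MonoidHom.mk' (fun x => ι ⟨⁅n, (x : N)⁆, H.comm n x⟩) (hmul n)
  let φ : N →* (S →* ℂˣ) := MonoidHom.mk' f (fun n m => by
    ext x : 1
    exact hmul' n m x)
  have hφ : ∀ (n : N) (x : S), φ n x = ι ⟨⁅n, (x : N)⁆, H.comm n x⟩ := fun _ _ => rfl
  have hφ1 : ∀ (n : N) (x : S), φ n x = 1 ↔ n * x = x * n := by
    intro n x
    rw [hφ, map_eq_one_iff ι hι, Subtype.ext_iff]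
    exact commutatorElement_eq_one_iff_mul_comm
  have hker : φ.ker = Subgroup.centralizer (S : Set N) := by
    ext n
    rw [MonoidHom.mem_ker, Subgroup.mem_centralizer_iff]
    constructor
    · intro h x hx
      exact ((hφ1 n ⟨x, hx⟩).1 (by rw [h]; rfl)).symm
    · intro h
      ext x : 1
      exact (hφ1 n x).2 (h x x.2).symm
  have hexp : NeZero (Monoid.exponent S) := ⟨Monoid.exponent_ne_zero_of_finite⟩
  have hrange : φ.range = ⊤ := by
    have h1 : (CommGroup.subgroupOrderIsoSubgroupMonoidHom S ℂ).symm (OrderDual.toDual φ.range) = ⊥ := by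
      rw [eq_bot_iff]
      intro x hx
      rw [CommGroup.mem_subgroupOrderIsoSubgroupMonoidHom_symm_iff] at hx
      have h3 : (x : N) ∈ S ⊓ Subgroup.center N := by
        refine ⟨x.2, Subgroup.mem_center_iff.2 fun n => ?_⟩
        exact (hφ1 n x).1 (hx _ ⟨n, rfl⟩)
      rw [hS, Subgroup.mem_bot] at h3
      exact Subgroup.mem_bot.2 (Subtype.ext h3)
    rw [OrderIso.symm_apply_eq] at h1
    rw [eq_top_iff]
    intro χ _
    have h3 : χ ∈ (CommGroup.subgroupOrderIsoSubgroupMonoidHom S ℂ ⊥).ofDual := by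
      rw [CommGroup.mem_subgroupOrderIsoSubgroupMonoidHom_iff]
      intro g hg
      rw [Subgroup.mem_bot.1 hg, map_one]
    rw [← h1] at h3
    exact h3
  have h1 : Nat.card φ.range = Nat.card S := by
    rw [hrange, Nat.card_congr Subgroup.topEquiv.toEquiv]
    exact CommGroup.card_monoidHom_of_hasEnoughRootsOfUnity S ℂ
  rw [← hker, ← h1, ← Nat.card_congr (QuotientGroup.quotientKerEquivRange φ).toEquiv, mul_comm]
  exact (Subgroup.card_eq_card_quotient_mul_card_subgroup φ.ker).symm

theorem Sym_card_quot (H : Sym s a N V) {S : Subgroup N} (hS : S ⊓ Subgroup.center N = ⊥) :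
    Nat.card (N ⧸ Subgroup.centralizer (S : Set N)) = Nat.card S := by
  have := H.fin
  have h1 := Sym_card_cen H hS
  rw [Subgroup.card_eq_card_quotient_mul_card_subgroup (Subgroup.centralizer (S : Set N)), mul_comm] at h1
  exact (Nat.eq_of_mul_eq_mul_right Nat.card_pos h1).symm

theorem Sym_isPGroup (H : Sym s a N V) {S : Subgroup N} (hS : S ⊓ Subgroup.center N = ⊥) : IsPGroup s S :=
  fun x => ⟨1, by rw [pow_one]; exact Subtype.ext (H.expS hS x.2)⟩

theorem Sym_card_pow (H : Sym s a N V) {S : Subgroup N} (hS : S ⊓ Subgroup.center N = ⊥) :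
    ∃ j, Nat.card S = s ^ j := by
  have := H.fin
  have : Fact s.Prime := ⟨H.hs⟩
  exact IsPGroup.iff_card.1 (Sym_isPGroup H hS)

theorem Sym_card_eq (H : Sym s a N V) {S : Subgroup N} (hS : S ⊓ Subgroup.center N = ⊥) :
    ∃ j ≤ a, Nat.card S = s ^ j := by
  have := H.fin
  obtain ⟨j, hj⟩ := Sym_card_pow H hS
  refine ⟨j, ?_, hj⟩
  have h1 := Sym_card_cen H hS
  -- the map `S × Z → C`
  let f : S × Subgroup.center N → Subgroup.centralizer (S : Set N) := fun p => ⟨p.1 * p.2, by
    rw [Subgroup.mem_centralizer_iff]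
    intro x hx
    have h3 : x * p.1 = p.1 * x := H.commS hS hx p.1.2
    have h4 : x * (p.2 : N) = p.2 * x := Subgroup.mem_center_iff.1 p.2.2 x
    rw [← mul_assoc, h3, mul_assoc, h4, mul_assoc]⟩
  have hf : Function.Injective f := by
    rintro ⟨x, c⟩ ⟨y, d⟩ h
    have h3 : (x : N) * c = y * d := congrArg Subtype.val h
    have h4 : (y : N)⁻¹ * x = d * (c : N)⁻¹ := by
      rw [inv_mul_eq_iff_eq_mul, ← mul_assoc, eq_mul_inv_iff_mul_eq, h3]
    have h5 : (y : N)⁻¹ * x ∈ S ⊓ Subgroup.center N :=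
      ⟨S.mul_mem (S.inv_mem y.2) x.2, by
        rw [h4]
        exact (Subgroup.center N).mul_mem d.2 ((Subgroup.center N).inv_mem c.2)⟩
    rw [hS, Subgroup.mem_bot] at h5
    rw [h5] at h4
    have h6 : y = x := Subtype.ext (inv_mul_eq_one.1 h5)
    have h7 : d = c := Subtype.ext (mul_inv_eq_one.1 h4.symm)
    rw [h6, h7]
  have h3 : Nat.card S * Nat.card (Subgroup.center N) ≤ Nat.card (Subgroup.centralizer (S : Set N)) := by
    rw [← Nat.card_prod]
    exact Nat.card_le_card_of_injective f hf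
  have h4 : Nat.card S * Nat.card S * Nat.card (Subgroup.center N) ≤ s ^ (2 * a) * Nat.card (Subgroup.center N) := by
    rw [mul_comm (s ^ (2 * a)), ← H.card, ← h1]
    calc Nat.card S * Nat.card S * Nat.card (Subgroup.center N)
        = Nat.card S * Nat.card (Subgroup.center N) * Nat.card S := by ring
      _ ≤ _ := Nat.mul_le_mul_right _ h3
  have h5 := Nat.le_of_mul_le_mul_right h4 Nat.card_pos
  rw [hj, ← pow_add] at h5
  have h6 := (Nat.pow_le_pow_iff_right H.hs.one_lt).1 h5
  omega

theorem comm_coset (H : Sym s a N V) {S : Subgroup N} {n m x : N} (hx : x ∈ S)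
    (h : n⁻¹ * m ∈ Subgroup.centralizer (S : Set N)) : ⁅m, x⁆ = ⁅n, x⁆ := by
  have h1 : ⁅n * (n⁻¹ * m), x⁆ = ⁅n, x⁆ * ⁅n⁻¹ * m, x⁆ := H.comm_mul_left _ _ _
  rw [mul_inv_cancel_left] at h1
  rw [h1, commutatorElement_eq_one_iff_mul_comm.2 (Subgroup.mem_centralizer_iff.1 h x hx).symm, mul_one]

/-- a central element fixing a nonzero vector is trivial -/
theorem sum_eq_zero (H : Sym s a N V) {c : N} (hc : c ∈ Subgroup.center N) (hc1 : c ≠ 1) {v : V} (h : c • v = v) :
    v = 0 := H.semi c hc hc1 v h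

theorem Sym_card_fixp (H : Sym s a N V) {S : Subgroup N} (hS : S ⊓ Subgroup.center N = ⊥) :
    Nat.card V = Nat.card (fixp V S) ^ Nat.card S := by
  classical
  have := H.fin
  have := H.finV
  set C := Subgroup.centralizer (S : Set N) with hC
  have hq := Sym_card_quot H hS
  rw [← hC] at hq
  let _ : Fintype (N ⧸ C) := Fintype.ofFinite _
  let _ : Fintype S := Fintype.ofFinite _
  let r : N ⧸ C → N := Quotient.out
  have hr : ∀ q : N ⧸ C, (r q : N ⧸ C) = q := fun q => QuotientGroup.out_eq' q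
  have hcop : (Nat.card V).Coprime (Nat.card S) := by
    obtain ⟨j, hj⟩ := Sym_card_pow H hS
    rw [hj]
    exact Nat.Coprime.pow_right j ((Nat.Prime.coprime_iff_not_dvd H.hs).2 H.cop).symm
  have hsurjS : ∀ v : V, ∃ w : V, Nat.card S • w = v := fun v => (nsmulCoprime hcop).surjective v
  have hinjS : ∀ v : V, Nat.card S • v = 0 → v = 0 := by
    intro v hv
    apply (nsmulCoprime hcop).injective
    show Nat.card S • v = Nat.card S • (0 : V)
    rw [hv, smul_zero]
  -- the basic identity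
  have hid : ∀ (m n : N) (x : S) (u : V), (x : N) • u = u →
      (m * x * m⁻¹) • n • u = ⁅n⁻¹ * m, (x : N)⁆ • n • u := by
    intro m n x u hu
    have h1 : ⁅n * (n⁻¹ * m), (x : N)⁆ = ⁅n, (x : N)⁆ * ⁅n⁻¹ * m, (x : N)⁆ := H.comm_mul_left _ _ _
    rw [mul_inv_cancel_left] at h1
    have h3 : m * x * m⁻¹ = ⁅n⁻¹ * m, (x : N)⁆ * (n * x * n⁻¹) := by
      have h4 := Subgroup.mem_center_iff.1 (H.comm (n⁻¹ * m) x) ⁅n, (x : N)⁆
      have h5 : m * x * m⁻¹ = ⁅m, (x : N)⁆ * x := by rw [commutatorElement_def]; group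
      have h6 : n * x * n⁻¹ = ⁅n, (x : N)⁆ * x := by rw [commutatorElement_def]; group
      rw [h5, h1, h6, h4, mul_assoc]
    rw [h3, mul_smul, ← mul_smul (n * x * n⁻¹) n, inv_mul_cancel_right, mul_smul n, hu]
  -- orthogonality over `S`
  have horS : ∀ (k : N) (w : V), k ∉ C → ∑ x : S, ⁅k, (x : N)⁆ • w = 0 := by
    intro k w hk
    rw [hC, Subgroup.mem_centralizer_iff] at hk
    push Not at hk
    obtain ⟨x₀, hx₀, hne⟩ := hk
    have h1 : ⁅k, x₀⁆ ≠ 1 := fun h => hne (commutatorElement_eq_one_iff_mul_comm.1 h).symm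
    apply H.semi _ (H.comm k x₀) h1
    rw [Finset.smul_sum]
    refine Fintype.sum_equiv (Equiv.mulLeft (⟨x₀, hx₀⟩ : S)) _ _ fun x => ?_
    rw [← mul_smul, ← H.comm_mul_right]
    rfl
  -- orthogonality over the cosets
  have horQ : ∀ (x : S) (w : V), x ≠ 1 → ∑ q : N ⧸ C, ⁅r q, (x : N)⁆ • w = 0 := by
    intro x w hx
    have h0 : (x : N) ∉ Subgroup.center N := by
      intro h
      apply hx
      have h1 : (x : N) ∈ S ⊓ Subgroup.center N := ⟨x.2, h⟩
      rw [hS, Subgroup.mem_bot] at h1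
      exact Subtype.ext h1
    rw [Subgroup.mem_center_iff] at h0
    push Not at h0
    obtain ⟨m, hm⟩ := h0
    have h1 : ⁅m, (x : N)⁆ ≠ 1 := fun h => hm (commutatorElement_eq_one_iff_mul_comm.1 h)
    apply H.semi _ (H.comm m x) h1
    rw [Finset.smul_sum]
    refine Fintype.sum_equiv (MulAction.toPerm m) _ _ fun q => ?_
    rw [← mul_smul, ← H.comm_mul_left]
    congr 1
    apply comm_coset H x.2
    rw [← hC, ← QuotientGroup.eq, hr]
    show m • q = ((m * r q : N) : N ⧸ C)
    nth_rewrite 1 [← hr q]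
    rfl
  let E : (N ⧸ C → fixp V S) → V := fun u => ∑ q, r q • (u q : V)
  have hE : Function.Bijective E := by
    constructor
    · intro u u' huu
      have h0 : ∑ q, r q • ((u q - u' q : fixp V S) : V) = 0 := by
        have h1 : ∑ q, r q • ((u q - u' q : fixp V S) : V) = E u - E u' := by
          show _ = ∑ q, r q • (u q : V) - ∑ q, r q • (u' q : V)
          rw [← Finset.sum_sub_distrib]
          refine Finset.sum_congr rfl fun q _ => ?_
          rw [← smul_sub]
          rfl
        rw [h1, huu, sub_self]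
      funext q'
      have h1 : ∑ x : S, (r q' * x * (r q')⁻¹) • (∑ q, r q • ((u q - u' q : fixp V S) : V)) = 0 := by
        rw [h0]
        simp
      have h3 : ∑ x : S, (r q' * x * (r q')⁻¹) • (∑ q, r q • ((u q - u' q : fixp V S) : V)) =
          ∑ q, ∑ x : S, ⁅(r q)⁻¹ * r q', (x : N)⁆ • r q • ((u q - u' q : fixp V S) : V) := by
        rw [Finset.sum_comm]
        refine Finset.sum_congr rfl fun x _ => ?_
        rw [Finset.smul_sum]
        refine Finset.sum_congr rfl fun q _ => ?_
        exact hid _ _ _ _ ((u q - u' q : fixp V S).2 x x.2)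
      rw [h3, Finset.sum_eq_single q'] at h1
      · have h4 : ∀ x : S, ⁅(r q')⁻¹ * r q', (x : N)⁆ • r q' • ((u q' - u' q' : fixp V S) : V) =
            r q' • ((u q' - u' q' : fixp V S) : V) := by
          intro x
          rw [inv_mul_cancel, commutatorElement_one_left, one_smul]
        rw [Finset.sum_congr rfl (fun x _ => h4 x), Finset.sum_const, Finset.card_univ,
          ← Nat.card_eq_fintype_card] at h1
        have h5 := hinjS _ h1
        rw [smul_eq_zero_iff_eq] at h5
        exact sub_eq_zero.1 (Subtype.ext h5)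
      · intro q _ hqq
        apply horS
        intro h
        apply hqq
        rw [← hr q, ← hr q', QuotientGroup.eq]
        exact h
      · intro h
        exact absurd (Finset.mem_univ _) h
    · intro v
      obtain ⟨w, rfl⟩ := hsurjS v
      refine ⟨fun q => ⟨∑ x : S, (x : N) • (r q)⁻¹ • w, ?_⟩, ?_⟩
      · intro y hy
        rw [Finset.smul_sum]
        refine Fintype.sum_equiv (Equiv.mulLeft (⟨y, hy⟩ : S)) _ _ fun x => ?_
        rw [← mul_smul]
        rfl
      · show ∑ q, r q • ∑ x : S, (x : N) • (r q)⁻¹ • w = _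
        have h1 : ∑ q, r q • ∑ x : S, (x : N) • (r q)⁻¹ • w = ∑ x : S, ∑ q, ⁅r q, (x : N)⁆ • (x : N) • w := by
          rw [Finset.sum_comm]
          refine Finset.sum_congr rfl fun q _ => ?_
          rw [Finset.smul_sum]
          refine Finset.sum_congr rfl fun x _ => ?_
          rw [← mul_smul, ← mul_smul, ← mul_smul]
          congr 1
          rw [commutatorElement_def]
          group
        rw [h1, Finset.sum_eq_single (1 : S)]
        · have h4 : ∀ q : N ⧸ C, ⁅r q, ((1 : S) : N)⁆ • ((1 : S) : N) • w = w := by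
            intro q
            rw [Subgroup.coe_one, commutatorElement_one_right, one_smul, one_smul]
          rw [Finset.sum_congr rfl (fun q _ => h4 q), Finset.sum_const, Finset.card_univ,
            ← Nat.card_eq_fintype_card, hq]
        · intro x _ hx
          exact horQ x _ hx
        · intro h
          exact absurd (Finset.mem_univ _) h
  rw [← Nat.card_congr (Equiv.ofBijective E hE), Nat.card_fun, hq]

end Cfsg.Agent.H813.HT
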